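import Mathlib
import Cfsg.Statements.S1403
import Cfsg.Statements.S1405
import Cfsg.Statements.S1407
import Cfsg.Agent.Lib.Helper23.BG.CoprimeSylow
import Cfsg.Agent.Lib.Helper13.BG.Tools
import Cfsg.Agent.Lib.Helper13.BG.S1427A
import Cfsg.Agent.Lib.Helper29.BG.S1416B
import Cfsg.Agent.Lib.Helper31.BG.S1423Core
import Cfsg.Agent.Lib.Helper68.BG.FrobAct
import Cfsg.Agent.Lib.Helper68.BG.S1428MB
import Cfsg.Agent.Lib.Helper67.BG.Basics
import Cfsg.Agent.Lib.Helper61.Norm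

/-!
# B&G 13.4 / 13.5, far end ("Lemma L4 (vi), (vii)" of the S1430 project)

`M` a maximal subgroup, `p ∈ τ₁(M)`, `P ≤ M` of order `p`, `Q ≠ 1` a `P`-invariant Sylow
`q`-subgroup of `M` with `C_Q(P) = 1` and `N_G(Q) ≤ M* ≠ M`.  Given `q ∉ α(M)` and `M_α ≠ 1`
(L4 (ii), (iv)):

* `C_{M_α}(P) ≠ 1`;
* every Sylow subgroup of `C_{M_α}(P)` is cyclic (`C_{M_α}(P)` is a Z-group);
* `C_{M_α}(QP) = 1`.

Black boxes (types only): S1403, S1405, S1407.
-/

set_option autoImplicit false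

namespace Cfsg.Agent.Lib.Helper23.BG

open Cfsg Cfsg.Agent.Lib.Helper46 Cfsg.Agent.Lib.Helper35.BG Cfsg.Agent.Lib.Helper13.BG
open Subgroup

universe u

variable {G : Type u} [Group G]

/-- A Sylow `s`-subgroup `S` of `M_α` (`s ∣ |M_α|`) is not centralized by a subgroup `Q` of `M`
whose normalizer lies in another maximal subgroup. -/
theorem alpha_sylow_not_centralized [Finite G] (hG : Cfsg.IsMinSimpleOddOrder G)
    (h1403 : type_of% (@Cfsg.CfsgFrozen.S1403 G _ _ hG))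
    (h1405 : type_of% (@Cfsg.CfsgFrozen.S1405 G _ _ hG))
    {M Ms : Subgroup G} (hM : IsCoatom M) (hMs : IsCoatom Ms) (hne : Ms ≠ M)
    {Q : Subgroup G} (hNQ : normalizer (Q : Set G) ≤ Ms)
    {s : ℕ} [Fact s.Prime] (hsK : s ∣ Nat.card (alphaCore M)) {S : Subgroup G}
    (hS : IsSylowIn s S (alphaCore M)) : ¬ Q ≤ centralizer (S : Set G) := by
  intro hQS
  have hsp : s.Prime := Fact.out
  have hsα : s ∈ alpha M := Cfsg.Agent.Lib.Helper29.BG.alphaCore_isPi' M s hsp hsK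
  have hKM : alphaCore M ≤ M := Cfsg.Agent.Lib.Helper29.BG.alphaCore_le' M
  have hSM : S ≤ M := hS.1.trans hKM
  have hSMs : S ≤ Ms :=
    (Subgroup.le_centralizer_iff.mp hQS).trans ((centralizer_le_normalizer' Q).trans hNQ)
  have hSs : IsPGroup s S := sylIn_isPGroup hS
  have hHall := (h1405 M hM).1
  have hnd : ¬ s ∣ S.relIndex M := by
    rw [← Subgroup.relIndex_mul_relIndex S (alphaCore M) M hS.1 hKM]
    intro hdvd
    rcases (Nat.Prime.dvd_mul hsp).mp hdvd with h | h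
    · obtain ⟨S₀, hS₀⟩ := hS.exists_sylow
      have h1 : S.relIndex (alphaCore M) = (S₀ : Subgroup ↥(alphaCore M)).index := by
        rw [← hS₀]
        unfold Subgroup.relIndex Subgroup.subgroupOf
        rw [Subgroup.comap_map_eq_self_of_injective (alphaCore M).subtype_injective]
      rw [h1] at h
      exact S₀.not_dvd_index h
    · exact hHall.2.2 s hsp hsα h
  have hSylM : IsSylowIn s S M := isSylowIn_of_not_dvd_relIndex hSs hSM hnd
  have hrk : ¬ PRankLE s 2 ↥S := fun h => hsα.2 (pRankLE_of_isSylowIn hSylM h)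
  have hU : InUniqueMaximal S := Cfsg.Agent.Lib.Helper31.BG.rank3_unique hG h1403 s S hSs hrk
  exact hne (Cfsg.Agent.Lib.Helper31.BG.eq_of_inUniqueMaximal hU hM hSM hMs hSMs)

/-- L4 (vi): every `s`-subgroup of `C_{M_α}(P)` is cyclic (`C_{M_α}(P)` is a Z-group). -/
theorem l4_cent_cyclic [Finite G] (hG : Cfsg.IsMinSimpleOddOrder G)
    (h1407 : type_of% (@Cfsg.CfsgFrozen.S1407 G _ _ hG))
    {M : Subgroup G} (hM : IsCoatom M) (hα : alphaCore M ≠ ⊥)
    {p : ℕ} (hp : p ∈ tau1 M) {P : Subgroup G} (hPM : P ≤ M) (hP : Nat.card P = p)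
    (s : ℕ) (S : Subgroup G) (hs : s.Prime) (hSs : IsPGroup s S)
    (hS : S ≤ alphaCore M ⊓ centralizer (P : Set G)) : IsCyclic S := by
  classical
  obtain ⟨hpp, hpσ, hpM, -, hp1⟩ := hp
  have : Fact p.Prime := ⟨hpp⟩
  have : Fact s.Prime := ⟨hs⟩
  obtain P₀ : Sylow p M := default
  obtain ⟨x, hx, hxo, hZ, -⟩ := h1407 M hM hα p hpM hpσ P₀
  obtain ⟨z', hz', rfl⟩ := hx
  obtain ⟨z, hz, rfl⟩ := hz'
  obtain ⟨x, hxdef⟩ : ∃ x : G, x = M.subtype ((P₀ : Subgroup M).subtype z) := ⟨_, rfl⟩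
  rw [← hxdef] at hxo hZ
  obtain ⟨P₀', hP₀'def⟩ : ∃ P₀' : Subgroup G, P₀' = (P₀ : Subgroup M).map M.subtype := ⟨_, rfl⟩
  have hP₀' : IsSylowIn p P₀' M := hP₀'def ▸ isSylowIn_of_sylow P₀
  have hxcent : ∀ w ∈ P₀', x * w = w * x := by
    intro w hw
    rw [hP₀'def] at hw
    obtain ⟨w₀, hw₀, rfl⟩ := hw
    have h1 := (Subgroup.mem_center_iff.mp hz) ⟨w₀, hw₀⟩
    have h2 := congrArg (fun t : ↥(P₀ : Subgroup M) => ((t : M) : G)) h1
    simp only [Subgroup.coe_mul] at h2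
    rw [hxdef]
    exact h2.symm
  have hxM : x ∈ M := by rw [hxdef]; exact (z : M).2
  have hx1 : x ≠ 1 := by
    intro h
    rw [h, orderOf_one] at hxo
    exact hpp.one_lt.ne hxo
  have hxp : x ^ p = 1 := by rw [← hxo]; exact pow_orderOf_eq_one x
  have hPp : IsPGroup p P := IsPGroup.of_card (n := 1) (by rw [hP, pow_one])
  obtain ⟨R, hR, hPR⟩ := exists_isSylowIn_ge hPp hPM
  obtain ⟨g, hg, hRg⟩ := hP₀'.exists_conj hR
  obtain ⟨x', hx'def⟩ : ∃ x' : G, x' = g * x * g⁻¹ := ⟨_, rfl⟩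
  have hx'M : x' ∈ M := by rw [hx'def]; exact M.mul_mem (M.mul_mem hg hxM) (M.inv_mem hg)
  have hx'1 : x' ≠ 1 := by
    intro h
    apply hx1
    have e : x = g⁻¹ * x' * g := by rw [hx'def]; group
    rw [e, h]; group
  have hx'p : x' ^ p = 1 := by
    rw [hx'def, conj_pow, hxp]; group
  have hx'o : orderOf x' = p := by
    rcases (Nat.dvd_prime hpp).mp (orderOf_dvd_of_pow_eq_one hx'p) with h | h
    · exact absurd (orderOf_eq_one_iff.mp h) hx'1
    · exact h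
  have hPle : P ≤ zpowers x' := by
    intro y hy
    have hyR : y ∈ R := hPR hy
    rw [hRg, mem_map_conj_iff] at hyR
    have h1 := hxcent _ hyR
    have hcomm : x' * y = y * x' := by
      rw [hx'def]
      calc g * x * g⁻¹ * y = g * (x * (g⁻¹ * y * g)) * g⁻¹ := by group
        _ = g * ((g⁻¹ * y * g) * x) * g⁻¹ := by rw [h1]
        _ = y * (g * x * g⁻¹) := by group
    have hyp : y ^ p = 1 := by
      have h0 : (⟨y, hy⟩ : ↥P) ^ p = 1 := by rw [← hP]; exact pow_card_eq_one'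
      simpa using congrArg Subtype.val h0
    exact Cfsg.Agent.Lib.Helper68.BG.mem_zpowers_of_pRankLE_one hp1 hx'M (hPM hy) hx'p hyp
      hcomm hx'1
  have hPeq : P = zpowers x' := by
    apply Subgroup.eq_of_le_of_card_ge hPle
    rw [Nat.card_zpowers, hx'o, hP]
  have hx'P : x' ∈ P := by rw [hPeq]; exact Subgroup.mem_zpowers x'
  have hMK : M ≤ normalizer ((alphaCore M : Subgroup G) : Set G) :=
    Cfsg.Agent.Lib.Helper29.BG.alphaCore_normalizer' M
  obtain ⟨Z, hZdef⟩ : ∃ Z : Subgroup G, Z = alphaCore M ⊓ centralizer ({x} : Set G) := ⟨_, rfl⟩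
  rw [← hZdef] at hZ
  obtain ⟨S', hS'def⟩ : ∃ S' : Subgroup G, S' = S.map (MulAut.conj g⁻¹).toMonoidHom := ⟨_, rfl⟩
  have hS'Z : S' ≤ Z := by
    rw [hS'def, hZdef]
    rintro _ ⟨c, hc, rfl⟩
    have hcK : c ∈ alphaCore M := (hS hc).1
    have hcP : c ∈ centralizer (P : Set G) := (hS hc).2
    have hcx' : x' * c = c * x' := Subgroup.mem_centralizer_iff.mp hcP x' hx'P
    show g⁻¹ * c * g⁻¹⁻¹ ∈ alphaCore M ⊓ centralizer ({x} : Set G)
    refine Subgroup.mem_inf.mpr ⟨?_, ?_⟩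
    · exact (Subgroup.mem_normalizer_iff.mp (hMK (M.inv_mem hg)) c).mp hcK
    · rw [Subgroup.mem_centralizer_iff]
      intro h hh
      rw [Set.mem_singleton_iff] at hh
      rw [hh, inv_inv]
      calc x * (g⁻¹ * c * g) = g⁻¹ * ((g * x * g⁻¹) * c) * g := by group
        _ = g⁻¹ * (c * (g * x * g⁻¹)) * g := by rw [← hx'def, hcx']
        _ = g⁻¹ * c * g * x := by group
  have hS's : IsPGroup s S' := hS'def ▸ isPGroup_map_conj hSs g⁻¹
  have : IsZGroup ↥Z := hZ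
  have h1 : IsPGroup s (S'.subgroupOf Z) :=
    hS's.of_equiv (Subgroup.subgroupOfEquivOfLe hS'Z).symm
  have h2 : IsCyclic ↥(S'.subgroupOf Z) := IsPGroup.isCyclic_of_isZGroup h1
  have h3 : IsCyclic ↥S' := (Subgroup.subgroupOfEquivOfLe hS'Z).isCyclic.mp h2
  rw [hS'def] at h3
  exact (S.equivMapOfInjective _ (MulAut.conj g⁻¹).injective).isCyclic.mpr h3

/-- **Lemma L4 (vi), (vii)** (B&G 13.4/13.5): `C_{M_α}(P) ≠ 1` is a Z-group and
`C_{M_α}(QP) = 1`. -/
theorem l4_cent [Finite G] (hG : Cfsg.IsMinSimpleOddOrder G)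
    (h1403 : type_of% (@Cfsg.CfsgFrozen.S1403 G _ _ hG))
    (h1405 : type_of% (@Cfsg.CfsgFrozen.S1405 G _ _ hG))
    (h1407 : type_of% (@Cfsg.CfsgFrozen.S1407 G _ _ hG))
    (M Ms : Subgroup G) (hM : IsCoatom M) (hMs : IsCoatom Ms) (hne : Ms ≠ M)
    (p : ℕ) (hp : p ∈ tau1 M) (P : Subgroup G) (hPM : P ≤ M) (hP : Nat.card P = p)
    (q : ℕ) (Q : Subgroup G) (hq : q.Prime) (hQ : IsSylowIn q Q M) (_hQ1 : Q ≠ ⊥)
    (hPQ : P ≤ normalizer (Q : Set G)) (hCQP : Q ⊓ centralizer (P : Set G) = ⊥)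
    (hNQ : normalizer (Q : Set G) ≤ Ms)
    (hqα : q ∉ alpha M) (hα : alphaCore M ≠ ⊥) :
    alphaCore M ⊓ centralizer (P : Set G) ≠ ⊥ ∧
      (∀ (s : ℕ) (S : Subgroup G), s.Prime → IsPGroup s S →
        S ≤ alphaCore M ⊓ centralizer (P : Set G) → IsCyclic S) ∧
      alphaCore M ⊓ centralizer (Q : Set G) ⊓ centralizer (P : Set G) = ⊥ := by
  classical
  have hcyc := fun (s : ℕ) (S : Subgroup G) (hs : s.Prime) (hSs : IsPGroup s S)
      (hS : S ≤ alphaCore M ⊓ centralizer (P : Set G)) =>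
    l4_cent_cyclic hG h1407 hM hα hp hPM hP s S hs hSs hS
  obtain ⟨hpp, hpσ, hpM, -, hp1⟩ := hp
  have : Fact p.Prime := ⟨hpp⟩
  have : Fact q.Prime := ⟨hq⟩
  have hQq : IsPGroup q Q := sylIn_isPGroup hQ
  have hQM : Q ≤ M := hQ.1
  have hKM : alphaCore M ≤ M := Cfsg.Agent.Lib.Helper29.BG.alphaCore_le' M
  have hMK : M ≤ normalizer ((alphaCore M : Subgroup G) : Set G) :=
    Cfsg.Agent.Lib.Helper29.BG.alphaCore_normalizer' M
  have hpα : p ∉ alpha M := fun h => h.2 (pRankLE_mono hpp.pos (by norm_num) hp1)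
  obtain ⟨A, hAdef⟩ : ∃ A : Subgroup G, A = Q ⊔ P := ⟨_, rfl⟩
  have hQA : Q ≤ A := hAdef ▸ le_sup_left
  have hPA : P ≤ A := hAdef ▸ le_sup_right
  have hAM : A ≤ M := hAdef ▸ sup_le hQM hPM
  have hAK : A ≤ normalizer ((alphaCore M : Subgroup G) : Set G) := hAM.trans hMK
  have hAdvd : Nat.card A ∣ Nat.card Q * Nat.card P := by
    have h1 := Cfsg.Agent.Lib.Helper91.card_sup_mul_card_inf_of_le_normalizer Q P hPQ
    rw [← hAdef] at h1
    exact Dvd.intro _ h1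
  have hnotα : ∀ t : ℕ, t.Prime → t ∣ Nat.card A → t ∉ alpha M := by
    intro t ht htA
    rcases (Nat.Prime.dvd_mul ht).mp (htA.trans hAdvd) with h | h
    · rw [Cfsg.Agent.Lib.Helper67.BG.prime_eq_of_dvd_card_isPGroup hQq ht h]; exact hqα
    · rw [hP] at h
      rw [(Nat.prime_dvd_prime_iff_eq ht hpp).mp h]; exact hpα
  have hcop : (Nat.card A).Coprime (Nat.card (alphaCore M)) := by
    apply Nat.coprime_of_dvd
    intro t ht h1 h2
    exact hnotα t ht h1 (Cfsg.Agent.Lib.Helper29.BG.alphaCore_isPi' M t ht h2)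
  have hKtop : alphaCore M ≠ ⊤ := fun h => hM.1 (top_le_iff.mp (h ▸ hKM))
  have hsolv : Group.IsSolvable ↥A ∨ Group.IsSolvable ↥(alphaCore M) :=
    Or.inr (isSolvable_of_ne_top hG hKtop)
  -- the key step for a `QP`-invariant Sylow subgroup of `M_α`
  have hkey : ∀ (s : ℕ) [Fact s.Prime] (S : Subgroup G), s ∣ Nat.card (alphaCore M) →
      IsSylowIn s S (alphaCore M) → A ≤ normalizer (S : Set G) →
      (∃ u ∈ S ⊓ centralizer (P : Set G), u ≠ 1) ∧
        S ⊓ centralizer (Q : Set G) ⊓ centralizer (P : Set G) = ⊥ := by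
    intro s _ S hsK hS hAS
    have hsp : s.Prime := Fact.out
    have hsα : s ∈ alpha M := Cfsg.Agent.Lib.Helper29.BG.alphaCore_isPi' M s hsp hsK
    have hSs : IsPGroup s S := sylIn_isPGroup hS
    have hQS : ¬ Q ≤ centralizer (S : Set G) :=
      alpha_sylow_not_centralized hG h1403 h1405 hM hMs hne hNQ hsK hS
    have hqs : q ≠ s := fun h => hqα (h ▸ hsα)
    have hps : p ≠ s := fun h => hpα (h ▸ hsα)
    have hQcop : (Nat.card Q).Coprime s := by
      obtain ⟨k, hk⟩ := IsPGroup.iff_card.mp hQq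
      rw [hk]
      exact Nat.Coprime.pow_left k ((Nat.coprime_primes hq hsp).mpr hqs)
    constructor
    · obtain ⟨u, hu, hnu⟩ := Cfsg.Agent.Lib.Helper68.BG.frob_F0 S Q P hSs (hQA.trans hAS)
        (hPA.trans hAS) hQcop hP hpp hps hPQ hCQP hQS
      refine ⟨u, hu, ?_⟩
      rintro rfl
      exact hnu (fun a _ => by rw [mul_one, one_mul])
    · by_contra hfix
      have hScyc : IsCyclic ↥(S ⊓ centralizer (P : Set G)) :=
        hcyc s _ hsp (hSs.to_le inf_le_left) (inf_le_inf hS.1 le_rfl)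
      exact hQS (Cfsg.Agent.Lib.Helper68.BG.frob_F S Q P hSs (hQA.trans hAS) (hPA.trans hAS)
        hQcop hP hpp hps hPQ hCQP hScyc hfix)
  refine ⟨?_, hcyc, ?_⟩
  · -- `C_{M_α}(P) ≠ 1`
    obtain ⟨s, hs, hsK⟩ := Cfsg.Agent.Lib.Helper29.BG.exists_prime_dvd_card_of_ne_bot hα
    have : Fact s.Prime := ⟨hs⟩
    obtain ⟨S, hS, hAS⟩ := exists_sylIn_normalized A (alphaCore M) hAK hcop hsolv s
    obtain ⟨⟨u, hu, hu1⟩, -⟩ := hkey s S hsK hS hAS
    intro hbot
    have hu' : u ∈ alphaCore M ⊓ centralizer (P : Set G) := ⟨hS.1 hu.1, hu.2⟩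
    rw [hbot, Subgroup.mem_bot] at hu'
    exact hu1 hu'
  · -- `C_{M_α}(QP) = 1`
    by_contra hne'
    obtain ⟨s, hs, hsC⟩ := Cfsg.Agent.Lib.Helper29.BG.exists_prime_dvd_card_of_ne_bot hne'
    have : Fact s.Prime := ⟨hs⟩
    obtain ⟨y, hy⟩ := exists_prime_orderOf_dvd_card' s hsC
    have hyC : (y : G) ∈ alphaCore M ⊓ centralizer (Q : Set G) ⊓ centralizer (P : Set G) := y.2
    have hyo : orderOf (y : G) = s := by rw [Subgroup.orderOf_coe]; exact hy
    have hyK : (y : G) ∈ alphaCore M := hyC.1.1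
    have hsK : s ∣ Nat.card (alphaCore M) :=
      hsC.trans (Subgroup.card_dvd_of_le (inf_le_left.trans inf_le_left))
    have hYs : IsPGroup s (zpowers (y : G)) :=
      IsPGroup.of_card (n := 1) (by rw [Nat.card_zpowers, hyo, pow_one])
    have hAcent : A ≤ centralizer ((zpowers (y : G) : Subgroup G) : Set G) := by
      rw [hAdef]
      apply sup_le
      · apply Subgroup.le_centralizer_iff.mp
        rw [Subgroup.zpowers_le]
        exact hyC.1.2
      · apply Subgroup.le_centralizer_iff.mp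
        rw [Subgroup.zpowers_le]
        exact hyC.2
    obtain ⟨S, hS, hAS, hYS⟩ := exists_sylIn_normalized_ge A (alphaCore M) hAK hcop hsolv s
      (zpowers (y : G)) (by rw [Subgroup.zpowers_le]; exact hyK) hYs
      (hAcent.trans (centralizer_le_normalizer' _))
    obtain ⟨-, hfix⟩ := hkey s S hsK hS hAS
    have hyS : (y : G) ∈ S ⊓ centralizer (Q : Set G) ⊓ centralizer (P : Set G) :=
      ⟨⟨hYS (Subgroup.mem_zpowers _), hyC.1.2⟩, hyC.2⟩
    rw [hfix, Subgroup.mem_bot] at hyS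
    rw [hyS, orderOf_one] at hyo
    exact hs.one_lt.ne hyo

end Cfsg.Agent.Lib.Helper23.BG
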