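import Mathlib
import Cfsg.Statements.S1350
import Cfsg.Statements.S1378
import Cfsg.Statements.S1409
import Cfsg.Statements.S1418
import Cfsg.Statements.S1420
import Cfsg.Statements.S1424
import Cfsg.Agent.Lib.Helper13.BG.LemX
import Cfsg.Agent.Lib.Helper13.BG.Tools
import Cfsg.Agent.Lib.Helper47.BG.SigmaNe
import Cfsg.Agent.Lib.Helper74.BG.S1425Core
import Cfsg.Agent.Lib.Helper77.CyclicAct
import Cfsg.Agent.Lib.Helper97.FrobFormula
import Cfsg.Agent.Lib.Helper1.RankTwoLin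
import Cfsg.Agent.Lib.Helper25.BG.Sec11
import Cfsg.Agent.Lib.Helper2.BG.S1424Core
import Cfsg.Agent.Lib.Helper91.Coprime2
import Cfsg.Agent.Lib.Helper35.BG.FrobQ
import Cfsg.Agent.Lib.Helper24.CyclicP

/-!
# S1430, clause (3c) ("OPEN-D"): a subgroup of prime order of `K` lies in `M*_σ`

Formalization of helper15's paper proof (note 2141, part (B)), helper23.

Setting: `M` a maximal subgroup, `p ∉ σ(M)` with `M` of `p`-rank at most one, `X ≤ M` of order `p`
with `C_{M_σ}(X) ≠ 1`, and `J` a maximal subgroup containing `N_G(X)`.  Then `p ∈ σ(J)`.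

Black boxes (types only): S1350, S1378 (the sigma-partition), S1403, S1404, S1405, S1409, S1414,
S1415, S1416, S1417, S1418, S1420, S1423, S1424 and B&G 13.12 (`Tau12Regular`, in the shape of
helper15's `tau12_regular`).
-/

set_option autoImplicit false
set_option linter.style.haveILetI false

namespace Cfsg.Agent.Lib.Helper23.BG

open Cfsg Cfsg.Agent.Lib.Helper46 Cfsg.Agent.Lib.Helper35.BG Cfsg.Agent.Lib.Helper13.BG
open Subgroup
open scoped commutatorElement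

universe u

variable {G : Type u} [Group G]

/-- B&G 13.12, in the shape of helper15's `tau12_regular`. -/
def Tau12Regular (G : Type u) [Group G] : Prop :=
  ∀ (M : Subgroup G), IsCoatom M → ∀ (E : Subgroup G), IsComplIn E (sigmaCore M) M →
    ∀ (q : ℕ) [Fact q.Prime], q ∈ tau2 M → ∀ (A : Subgroup G),
      (A ≤ E ∧ IsElementaryAbelian q A ∧ Nat.card A = q ^ 2) →
    ∀ (p : ℕ), p ∈ tau1 M → ∀ (P : Subgroup G), P ≤ E → Nat.card P = p →
      A ⊓ centralizer (P : Set G) ≠ ⊥ → sigmaCore M ⊓ centralizer (P : Set G) = ⊥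

/-- The earlier statements used. -/
structure ODHyp [Finite G] (hG : Cfsg.IsMinSimpleOddOrder G) : Prop where
  h1350 : type_of% (@Cfsg.CfsgFrozen.S1350 G _ _ hG)
  h1378 : type_of% (@Cfsg.CfsgFrozen.S1378 G _ _ hG)
  h1403 : type_of% (@Cfsg.CfsgFrozen.S1403 G _ _ hG)
  h1404 : type_of% (@Cfsg.CfsgFrozen.S1404 G _ _ hG)
  h1405 : type_of% (@Cfsg.CfsgFrozen.S1405 G _ _ hG)
  h1409 : type_of% (@Cfsg.CfsgFrozen.S1409 G _ _ hG)
  h1414 : type_of% (@Cfsg.CfsgFrozen.S1414 G _ _ hG)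
  h1415 : type_of% (@Cfsg.CfsgFrozen.S1415 G _ _ hG)
  h1416 : type_of% (@Cfsg.CfsgFrozen.S1416 G _ _ hG)
  h1417 : type_of% (@Cfsg.CfsgFrozen.S1417 G _ _ hG)
  h1418 : type_of% (@Cfsg.CfsgFrozen.S1418 G _ _ hG)
  h1420 : type_of% (@Cfsg.CfsgFrozen.S1420 G _ _ hG)
  h1423 : type_of% (@Cfsg.CfsgFrozen.S1423 G _ _ hG)
  h1424 : type_of% (@Cfsg.CfsgFrozen.S1424 G _ _ hG)
  h1312 : Tau12Regular.{u} G

/-- The configuration to be refuted. -/
structure ODCfg (M J F A X : Subgroup G) (p : ℕ) : Prop where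
  hM : IsCoatom M
  hJ : IsCoatom J
  hpM : p ∉ sigma M
  hp1 : PRankLE p 1 M
  hXM : X ≤ M
  hXcard : Nat.card X = p
  hNX : normalizer (X : Set G) ≤ J
  hτ₂ : p ∈ tau2 J
  hF : IsComplIn F (sigmaCore J) J
  hDF : sigmaCore M ⊓ centralizer (X : Set G) ≤ F
  hXF : X ≤ F
  hAF : A ≤ F
  hAea : IsElementaryAbelian p A
  hAcard : Nat.card A = p ^ 2

/-! ### Utilities -/

/-- Two subgroups normalizing each other with trivial intersection commute elementwise. -/
theorem comm_of_normalize_of_inf_eq_bot {A B : Subgroup G}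
    (hAB : A ≤ normalizer (B : Set G)) (hBA : B ≤ normalizer (A : Set G)) (h : A ⊓ B = ⊥) :
    ∀ a ∈ A, ∀ b ∈ B, a * b = b * a := by
  intro a ha b hb
  have h1 : a * b * a⁻¹ * b⁻¹ ∈ A ⊓ B := by
    refine ⟨?_, ?_⟩
    · have h2 : b * a⁻¹ * b⁻¹ ∈ A := (Subgroup.le_normalizer_iff.mp hBA) b hb a⁻¹ (A.inv_mem ha)
      have h3 : a * b * a⁻¹ * b⁻¹ = a * (b * a⁻¹ * b⁻¹) := by group
      rw [h3]; exact A.mul_mem ha h2
    · have h2 : a * b * a⁻¹ ∈ B := (Subgroup.le_normalizer_iff.mp hAB) a ha b hb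
      exact B.mul_mem h2 (B.inv_mem hb)
  rw [h, Subgroup.mem_bot] at h1
  have h4 : a * b = (a * b * a⁻¹ * b⁻¹) * (b * a) := by group
  rw [h4, h1, one_mul]

/-- The normalizer of `K` normalizes the centralizer of `K`. -/
theorem normalizer_le_normalizer_centralizer (K : Subgroup G) :
    normalizer (K : Set G) ≤ normalizer ((centralizer (K : Set G) : Subgroup G) : Set G) := by
  apply le_normalizer_of_forall_conj_mem
  intro g hg c hc
  rw [Subgroup.mem_centralizer_iff] at hc ⊢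
  intro k hk
  have h1 : g⁻¹ * k * g ∈ K := by
    have h0 := (Subgroup.mem_normalizer_iff.mp (Subgroup.inv_mem _ hg) k).mp hk
    simpa using h0
  have h2 := hc _ h1
  calc k * (g * c * g⁻¹) = g * ((g⁻¹ * k * g) * c) * g⁻¹ := by group
    _ = g * (c * (g⁻¹ * k * g)) * g⁻¹ := by rw [h2]
    _ = g * c * g⁻¹ * k := by group

/-- A proper subgroup of a group of order `p ^ 2` has order `1` or `p`. -/
theorem card_of_ne_of_card_sq [Finite G] {p : ℕ} (hp : p.Prime) {A B : Subgroup G}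
    (hA : Nat.card A = p ^ 2) (hBA : B ≤ A) (hne : B ≠ A) : Nat.card B = 1 ∨ Nat.card B = p := by
  have h1 : Nat.card B ∣ p ^ 2 := by rw [← hA]; exact Subgroup.card_dvd_of_le hBA
  obtain ⟨i, hi, hi2⟩ := (Nat.dvd_prime_pow hp).mp h1
  interval_cases i
  · left; simpa using hi2
  · right; simpa using hi2
  · exact absurd (Subgroup.eq_of_le_of_card_ge hBA (by rw [hi2, hA])) hne

/-- The sigma-partition, in the form used here. -/
theorem sigma_part [Finite G] {hG : Cfsg.IsMinSimpleOddOrder G} (h : ODHyp hG) {M L : Subgroup G}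
    (hM : IsCoatom M) (hL : IsCoatom L)
    (hnc : ∀ g : G, L ≠ M.map (MulAut.conj g).toMonoidHom) (q : ℕ) (hqM : q ∈ sigma M) :
    q ∉ sigma L := by
  intro hqL
  obtain ⟨g, hg⟩ := h.h1378.2 M L hM hL ⟨q, hqM, hqL⟩
  exact hnc g hg

/-! ### First consequences of the configuration -/

theorem ODCfg.noM [Finite G] {M J F A X : Subgroup G} {p : ℕ} [Fact p.Prime]
    (c : ODCfg M J F A X p) (g : G) : ¬ A.map (MulAut.conj g).toMonoidHom ≤ M :=
  not_le_of_pRankLE_one c.hp1 (Cfsg.Agent.Lib.Helper67.BG.isElementaryAbelian_map_conj c.hAea g)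
    (by rw [card_map_conj]; exact c.hAcard)

theorem ODCfg.ncJ [Finite G] {M J F A X : Subgroup G} {p : ℕ} [Fact p.Prime]
    (c : ODCfg M J F A X p) (g : G) : J ≠ M.map (MulAut.conj g).toMonoidHom := by
  intro hJg
  apply c.noM g⁻¹
  rintro _ ⟨a, ha, rfl⟩
  have haJ : a ∈ J := c.hF.1 (c.hAF ha)
  rw [hJg, mem_map_conj_iff] at haJ
  simpa [MulAut.conj_apply] using haJ

theorem ODCfg.s1418 [Finite G] {hG : Cfsg.IsMinSimpleOddOrder G} (h : ODHyp hG)
    {M J F A X : Subgroup G} {p : ℕ} [Fact p.Prime] (c : ODCfg M J F A X p) :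
    (F ≤ normalizer (A : Set G) ∧ ∀ X' : Subgroup G, X' ≤ F → Nat.card X' = p → X' ≤ A) ∧
      centralizer (A : Set G) ≤ J ⊓ normalizer (A : Set G) ∧ J ⊓ normalizer (A : Set G) = F ∧
      ¬ normalizer (A : Set G) ≤ J :=
  ⟨(h.h1418 J c.hJ F c.hF p c.hτ₂ A ⟨c.hAF, c.hAea, c.hAcard⟩).1,
    (h.h1418 J c.hJ F c.hF p c.hτ₂ A ⟨c.hAF, c.hAea, c.hAcard⟩).2.1⟩

/-! ### The key step (α) -/

/-- Step (α): for a Sylow `q`-subgroup `Dq` of `D = C_{M_σ}(X)` and `1 ≠ Y ⊴ Dq` centralizing `A`,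
a maximal subgroup `L` over `N(Y)` is not conjugate to `M`, `Dq` is a Sylow subgroup of `L` and
`N(Dq) ≤ M`. -/
theorem alpha_step [Finite G] {hG : Cfsg.IsMinSimpleOddOrder G} (h : ODHyp hG)
    {M J F A X : Subgroup G} {p : ℕ} [Fact p.Prime] (c : ODCfg M J F A X p)
    {q : ℕ} [Fact q.Prime] {Dq Y : Subgroup G}
    (hDq : IsSylowIn q Dq (sigmaCore M ⊓ centralizer (X : Set G)))
    (hYDq : Y ≤ Dq) (hY1 : Y ≠ ⊥) (hDqY : Dq ≤ normalizer (Y : Set G))
    (hAY : A ≤ centralizer (Y : Set G)) :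
    ∃ L : Subgroup G, IsCoatom L ∧ normalizer (Y : Set G) ≤ L ∧
      (∀ g : G, L ≠ M.map (MulAut.conj g).toMonoidHom) ∧
      normalizer (Dq : Set G) ≤ M ∧ IsSylowIn q Dq L := by
  classical
  have hpp : p.Prime := Fact.out
  have hqp : q.Prime := Fact.out
  have hHallM := (h.h1350 M c.hM).1
  have hσM : sigmaCore M ≤ M := Cfsg.Agent.Lib.Helper67.BG.sigmaCore_le M
  have hDqD : Dq ≤ sigmaCore M ⊓ centralizer (X : Set G) := hDq.1
  have hDqq : IsPGroup q Dq := sylIn_isPGroup hDq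
  have hDqσ : Dq ≤ sigmaCore M := hDqD.trans inf_le_left
  have hDqM : Dq ≤ M := hDqσ.trans hσM
  have hYq : IsPGroup q Y := hDqq.to_le hYDq
  have hYM : Y ≤ M := hYDq.trans hDqM
  have hDq1 : Dq ≠ ⊥ := fun hb => hY1 (le_bot_iff.mp (hb ▸ hYDq))
  have hqM : q ∈ sigma M := by
    apply Cfsg.Agent.Lib.Helper67.BG.sigmaCore_isPi M q hqp
    exact (Cfsg.Agent.Lib.Helper67.BG.dvd_card_of_isPGroup_ne_bot hDqq hDq1).trans
      (Subgroup.card_dvd_of_le hDqσ)
  have hYtop : Y ≠ ⊤ := fun ht => c.hM.1 (top_le_iff.mp (ht ▸ hYM))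
  obtain ⟨L, hL, hNYL⟩ := exists_coatom_ge (normalizer_ne_top hG hY1 hYtop)
  have hAL : A ≤ L := hAY.trans ((centralizer_le_normalizer' Y).trans hNYL)
  have hDqL : Dq ≤ L := hDqY.trans hNYL
  have hLM : L ≠ M := by
    rintro rfl
    exact c.noM 1 (by rw [Cfsg.Agent.Lib.Helper35.BG.map_conj_one]; exact hAL)
  obtain ⟨S', hS'syl, hDqS'⟩ := exists_isSylowIn_ge hDqq (le_inf hDqM hDqL)
  obtain ⟨S, hS⟩ := hS'syl.exists_sylow
  have hYS : Y ≤ (S : Subgroup ↥(M ⊓ L)).map (M ⊓ L).subtype := by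
    rw [hS]; exact hYDq.trans hDqS'
  obtain ⟨hncL, hNS, hnd⟩ := h.h1424 M c.hM q hqM Y hYq hY1 hYM L hL hLM hNYL S hYS
  rw [hS] at hNS hnd
  have hS'q : IsPGroup q S' := sylIn_isPGroup hS'syl
  have hS'M : S' ≤ M := hS'syl.1.trans inf_le_left
  have hS'L : S' ≤ L := hS'syl.1.trans inf_le_right
  have hS'sylL : IsSylowIn q S' L := isSylowIn_of_not_dvd_relIndex hS'q hS'L hnd
  have hS'1 : S' ≠ ⊥ := fun hb => hDq1 (le_bot_iff.mp (hb ▸ hDqS'))
  have hqL : q ∉ sigma L := sigma_part h c.hM hL hncL q hqM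
  obtain ⟨⟨hFA, hsubA⟩, -, -, -⟩ := c.s1418 h
  have hXA : X ≤ A := hsubA X c.hXF c.hXcard
  have hXL : X ≤ L := hXA.trans hAL
  have hpL : p ∈ sigma L := by
    by_contra hpL
    by_cases hcyc : IsCyclic S'
    · have h1 : normalizer (S' : Set G) ≤ normalizer (Y : Set G) :=
        Cfsg.Agent.Lib.Helper77.normalizer_le_normalizer_of_isCyclic hcyc (hYDq.trans hDqS')
      exact hqL (mem_sigma_of_sylIn hS'sylL hS'1 (h1.trans hNYL))
    · have hq2 : q ≠ 2 := prime_ne_two13 hG (X := S')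
        (Cfsg.Agent.Lib.Helper67.BG.dvd_card_of_isPGroup_ne_bot hS'q hS'1)
      obtain ⟨B, hBS', hBea, hBcard⟩ :=
        Cfsg.Agent.Lib.Helper2.BG.exists_ea_sq_of_not_isCyclic hq2 hS'q hcyc
      have hBq : IsPGroup q B := hS'q.to_le hBS'
      have hBM : B ≤ M := hBS'.trans hS'M
      have hBL : B ≤ L := hBS'.trans hS'L
      have hBnc : ¬ IsCyclic B := Cfsg.Agent.Lib.Helper25.BG.not_isCyclic_of_ea_sq hBea hBcard
      obtain ⟨EM, hEM⟩ := Cfsg.Agent.Lib.Helper67.BG.exists_compl_sigmaCore M hHallM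
      have hNB : normalizer (B : Set G) ≤ M :=
        (h.h1420 M c.hM EM hEM).2.2.1 q B hqM hBq hBM hBnc
      have hτ₂q : q ∈ tau2 L := by
        refine ⟨hqp, hqL, ?_, not_pRankLE_one_of_le hBea hBcard hBL⟩
        by_contra hr
        exact hqL (Cfsg.Agent.Lib.Helper46.BG.mem_sigma_of_mem_alpha hG h.h1405 hL ⟨hqp, hr⟩)
      have hHallL := (h.h1350 L hL).1
      obtain ⟨EL, hEL, hBEL⟩ := Cfsg.Agent.Lib.Helper76.BG.exists_compl_ge hG L hL hHallL B hBL (by
        intro r hr hrdvd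
        have hrq : r = q := Cfsg.Agent.Lib.Helper67.BG.prime_eq_of_dvd_card_isPGroup hBq hr hrdvd
        rw [hrq]; exact hqL)
      have h1418 := h.h1418 L hL EL hEL q hτ₂q B ⟨hBEL, hBea, hBcard⟩
      have hELeq : L ⊓ normalizer (B : Set G) = EL := h1418.2.1.2.1
      have hELM : EL ≤ M := by
        rw [← hELeq]; exact inf_le_right.trans hNB
      have hAp : IsPGroup p A := IsPGroup.of_card c.hAcard
      have hndp : ¬ p ∣ EL.relIndex L := by
        rw [relIndex_left_of_isComplIn hEL]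
        intro hdvd
        exact hpL (Cfsg.Agent.Lib.Helper67.BG.sigmaCore_isPi L p hpp hdvd)
      obtain ⟨l, hl, hAl⟩ := exists_conj_le_of_not_dvd_relIndex hAp hAL hEL.1 hndp
      exact c.noM l (hAl.trans hELM)
  have hpτ₁ : p ∉ tau1 L := fun hτ => hτ.2.1 hpL
  have hS'D : S' ≤ sigmaCore M ⊓ centralizer (X : Set G) := by
    intro s hs
    have hsσ : s ∈ sigmaCore M :=
      (Cfsg.Agent.Lib.Helper74.BG.le_sigmaCore_of_le hHallM hS'M (by
        intro r hr hrdvd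
        have hrq : r = q := Cfsg.Agent.Lib.Helper67.BG.prime_eq_of_dvd_card_isPGroup hS'q hr hrdvd
        rw [hrq]; exact hqM)) hs
    refine Subgroup.mem_inf.mpr ⟨hsσ, ?_⟩
    rw [Subgroup.mem_centralizer_iff]
    intro x hx
    have hxp : x ^ p ^ 1 = 1 := by
      rw [pow_one]
      have h0 : (⟨x, hx⟩ : ↥X) ^ p = 1 := by rw [← c.hXcard]; exact pow_card_eq_one'
      simpa using congrArg Subtype.val h0
    exact (lemX hG h.h1403 h.h1404 h.h1405 h.h1414 h.h1415 h.h1416 h.h1417 h.h1423 c.hM hL hncL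
      c.hpM hpτ₁ hsσ (hS'L hs) (c.hXM hx) (hXL hx) hxp).symm
  have hEq : S' = Dq := sylIn_eq_of_le hDq hS'q hS'D hDqS'
  rw [hEq] at hNS hS'sylL
  exact ⟨L, hL, hNYL, hncL, hNS, hS'sylL⟩

/-! ### The subgroup `Y₀` -/

/-- Some subgroup `Y₀` of prime order `q ∈ τ₁(J)` of `D = C_{M_σ}(X)` does not centralize `A`. -/
theorem exists_Y0 [Finite G] {hG : Cfsg.IsMinSimpleOddOrder G} (h : ODHyp hG)
    {M J F A X : Subgroup G} {p : ℕ} [Fact p.Prime] (c : ODCfg M J F A X p)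
    (hD1 : sigmaCore M ⊓ centralizer (X : Set G) ≠ ⊥) :
    ∃ (q : ℕ) (Y₀ : Subgroup G), q ∈ tau1 J ∧ Nat.card Y₀ = q ∧
      Y₀ ≤ sigmaCore M ⊓ centralizer (X : Set G) ∧ Y₀ ⊓ centralizer (A : Set G) = ⊥ := by
  classical
  have hpp : p.Prime := Fact.out
  have hcardD : Nat.card ↥(sigmaCore M ⊓ centralizer (X : Set G)) ≠ 1 :=
    fun h1 => hD1 (Subgroup.card_eq_one.mp h1)
  obtain ⟨q, hqp, hqD⟩ := Nat.exists_prime_and_dvd hcardD
  haveI : Fact q.Prime := ⟨hqp⟩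
  obtain ⟨Dq, hDq⟩ := exists_sylIn q (sigmaCore M ⊓ centralizer (X : Set G))
  have hDq1 : Dq ≠ ⊥ := sylIn_ne_bot hDq hqD
  have hDqq : IsPGroup q Dq := sylIn_isPGroup hDq
  have hDqD : Dq ≤ sigmaCore M ⊓ centralizer (X : Set G) := hDq.1
  have hDqF : Dq ≤ F := hDqD.trans c.hDF
  have hFJ : F ≤ J := c.hF.1
  have hDqJ : Dq ≤ J := hDqF.trans hFJ
  obtain ⟨⟨hFA, hsubA⟩, hCA, hJNA, hNAJ⟩ := c.s1418 h
  have hσM : sigmaCore M ≤ M := Cfsg.Agent.Lib.Helper67.BG.sigmaCore_le M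
  have hDqσ : Dq ≤ sigmaCore M := hDqD.trans inf_le_left
  have hDqM : Dq ≤ M := hDqσ.trans hσM
  have hqdvdDq : q ∣ Nat.card Dq := Cfsg.Agent.Lib.Helper67.BG.dvd_card_of_isPGroup_ne_bot hDqq hDq1
  have hqM : q ∈ sigma M :=
    Cfsg.Agent.Lib.Helper67.BG.sigmaCore_isPi M q hqp (hqdvdDq.trans (Subgroup.card_dvd_of_le hDqσ))
  have hqJ : q ∉ sigma J := sigma_part h c.hM c.hJ c.ncJ q hqM
  have hq2 : q ≠ 2 := prime_ne_two13 hG hqdvdDq
  have hqJdvd : q ∣ Nat.card J := hqdvdDq.trans (Subgroup.card_dvd_of_le hDqJ)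
  have hqnep : q ≠ p := by rintro rfl; exact c.hpM hqM
  -- Claim A
  have hclaimA : ¬ A ≤ centralizer (Dq : Set G) := by
    intro hAC
    obtain ⟨L, hL, hNL, hncL, hNDq, hsyl⟩ := alpha_step h c hDq le_rfl hDq1 le_normalizer hAC
    exact c.noM 1 (by
      rw [Cfsg.Agent.Lib.Helper35.BG.map_conj_one]
      exact hAC.trans ((centralizer_le_normalizer' Dq).trans hNDq))
  -- Claim B
  have hr2q : PRankLE q 2 J := by
    by_contra hr
    exact hqJ (Cfsg.Agent.Lib.Helper46.BG.mem_sigma_of_mem_alpha hG h.h1405 c.hJ ⟨hqp, hr⟩)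
  have hFtop : F ≠ ⊤ := fun ht => c.hJ.1 (top_le_iff.mp (ht ▸ hFJ))
  have hsolvF : Group.IsSolvable F := isSolvable_of_ne_top hG hFtop
  have hclaimB : q ∈ tau1 J := by
    by_contra hτ₁
    by_cases hr1q : PRankLE q 1 J
    · have hdvd' : q ∣ Nat.card ↥⁅J, J⁆ := by
        by_contra hnd
        exact hτ₁ ⟨hqp, hqJ, hqJdvd, hnd, hr1q⟩
      have hτ₃ : q ∈ tau3 J := ⟨hqp, hqJ, hdvd', hr1q⟩
      obtain ⟨F₃, hF₃, hDqF₃⟩ := Cfsg.Agent.Lib.Helper67.BG.exists_piHallOf_ge (tau3 J) F hsolvF Dq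
        hDqF (by
          intro r hr hrdvd
          have hrq : r = q :=
            Cfsg.Agent.Lib.Helper67.BG.prime_eq_of_dvd_card_isPGroup hDqq hr hrdvd
          rw [hrq]; exact hτ₃)
      obtain ⟨-, -, hFF₃⟩ := (h.h1415 J c.hJ F c.hF).2.2 F₃ hF₃
      have hpF₃ : ¬ p ∣ Nat.card F₃ := by
        intro hdvd
        have h3 := hF₃.2.1 p hpp hdvd
        exact c.hτ₂.2.2.2 h3.2.2.2
      have hdisj : A ⊓ F₃ = ⊥ := by
        apply disjoint_iff.mp
        apply Subgroup.disjoint_of_coprime_natCard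
        rw [c.hAcard]
        exact Nat.Coprime.pow_left 2 ((Nat.Prime.coprime_iff_not_dvd hpp).mpr hpF₃)
      have hcomm := comm_of_normalize_of_inf_eq_bot (c.hAF.trans hFF₃) (hF₃.1.trans hFA) hdisj
      apply hclaimA
      intro a ha
      rw [Subgroup.mem_centralizer_iff]
      intro d hd
      exact (hcomm a ha d (hDqF₃ hd)).symm
    · have hτ₂q : q ∈ tau2 J := ⟨hqp, hqJ, hr2q, hr1q⟩
      obtain ⟨Bq, hBqF, hBqea, hBqcard⟩ :=
        Cfsg.Agent.Lib.Helper67.BG.exists_ea_sq_le_compl c.hF hτ₂q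
      obtain ⟨⟨hFBq, hsubBq⟩, -, -⟩ := h.h1418 J c.hJ F c.hF q hτ₂q Bq ⟨hBqF, hBqea, hBqcard⟩
      have hBqq : IsPGroup q Bq := IsPGroup.of_card hBqcard
      have hdisj : A ⊓ Bq = ⊥ := by
        apply disjoint_iff.mp
        apply Subgroup.disjoint_of_coprime_natCard
        rw [c.hAcard, hBqcard]
        exact Nat.Coprime.pow 2 2 ((Nat.coprime_primes hpp hqp).mpr (Ne.symm hqnep))
      have hcomm := comm_of_normalize_of_inf_eq_bot (c.hAF.trans hFBq) (hBqF.trans hFA) hdisj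
      have hY1 : Dq ⊓ Bq ≠ ⊥ := by
        obtain ⟨y, hy⟩ := exists_prime_orderOf_dvd_card' (G := ↥Dq) q hqdvdDq
        have hyo : orderOf (y : G) = q := by rw [Subgroup.orderOf_coe]; exact hy
        have hzc : Nat.card (zpowers (y : G)) = q := by rw [Nat.card_zpowers, hyo]
        have hzDq : zpowers (y : G) ≤ Dq := by rw [Subgroup.zpowers_le]; exact y.2
        have hzBq : zpowers (y : G) ≤ Bq := hsubBq _ (hzDq.trans hDqF) hzc
        intro hbot
        have h1 : (y : G) ∈ Dq ⊓ Bq := ⟨y.2, hzBq (Subgroup.mem_zpowers _)⟩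
        rw [hbot, Subgroup.mem_bot] at h1
        rw [h1, orderOf_one] at hyo
        exact hqp.one_lt.ne hyo
      have hDqN : Dq ≤ normalizer ((Dq ⊓ Bq : Subgroup G) : Set G) := by
        intro d hd
        exact mem_normalizer_inf13 (le_normalizer hd) ((hDqF.trans hFBq) hd)
      have hAY : A ≤ centralizer ((Dq ⊓ Bq : Subgroup G) : Set G) := by
        intro a ha
        rw [Subgroup.mem_centralizer_iff]
        intro y hy
        exact (hcomm a ha y hy.2).symm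
      obtain ⟨L, hL, hNL, hncL, hNDq, hsyl⟩ := alpha_step h c hDq inf_le_left hY1 hDqN hAY
      have hBqL : Bq ≤ L := by
        refine le_trans ?_ hNL
        refine le_trans ?_ (centralizer_le_normalizer' _)
        intro b hb
        rw [Subgroup.mem_centralizer_iff]
        intro y hy
        exact Cfsg.Agent.Lib.Helper20.BG.ea_comm hBqea y hy.2 b hb
      obtain ⟨R, hR, hBqR⟩ := exists_isSylowIn_ge hBqq hBqL
      obtain ⟨l, hl, hDqeq⟩ := hR.exists_conj hsyl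
      have hBl : Bq.map (MulAut.conj l).toMonoidHom ≤ Dq := by
        rw [hDqeq]; exact Subgroup.map_mono hBqR
      have hBlM : Bq.map (MulAut.conj l).toMonoidHom ≤ M := hBl.trans hDqM
      have hBlnc : ¬ IsCyclic ↥(Bq.map (MulAut.conj l).toMonoidHom) :=
        Cfsg.Agent.Lib.Helper25.BG.not_isCyclic_of_ea_sq
          (Cfsg.Agent.Lib.Helper67.BG.isElementaryAbelian_map_conj hBqea l)
          (by rw [card_map_conj]; exact hBqcard)
      obtain ⟨EM, hEM⟩ := Cfsg.Agent.Lib.Helper67.BG.exists_compl_sigmaCore M (h.h1350 M c.hM).1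
      have hNBl : normalizer ((Bq.map (MulAut.conj l).toMonoidHom : Subgroup G) : Set G) ≤ M :=
        (h.h1420 M c.hM EM hEM).2.2.1 q _ hqM (isPGroup_map_conj hBqq l) hBlM hBlnc
      apply c.noM l
      refine le_trans ?_ hNBl
      rw [normalizer_map_conj]
      exact Subgroup.map_mono (c.hAF.trans hFBq)
  -- Claim C
  have hr1q : PRankLE q 1 J := hclaimB.2.2.2.2
  have hDqcyc : IsCyclic Dq := by
    apply isCyclic_of_pRankLE_one hq2 hDqq
    rw [Cfsg.Agent.Lib.Helper24.pRankLE_subgroup_iff] at hr1q ⊢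
    intro B hB hc he
    exact hr1q B (hB.trans hDqJ) hc he
  have hclaimC : Dq ⊓ centralizer (A : Set G) = ⊥ := by
    by_contra hY1
    have hDqN : Dq ≤ normalizer ((Dq ⊓ centralizer (A : Set G) : Subgroup G) : Set G) :=
      le_normalizer.trans
        (Cfsg.Agent.Lib.Helper77.normalizer_le_normalizer_of_isCyclic hDqcyc inf_le_left)
    have hAY : A ≤ centralizer ((Dq ⊓ centralizer (A : Set G) : Subgroup G) : Set G) := by
      intro a ha
      rw [Subgroup.mem_centralizer_iff]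
      intro y hy
      exact (Subgroup.mem_centralizer_iff.mp hy.2 a ha).symm
    obtain ⟨L, hL, hNL, hncL, hNDq, hsyl⟩ := alpha_step h c hDq inf_le_left hY1 hDqN hAY
    have h1 : normalizer (Dq : Set G) ≤
        normalizer ((Dq ⊓ centralizer (A : Set G) : Subgroup G) : Set G) :=
      Cfsg.Agent.Lib.Helper77.normalizer_le_normalizer_of_isCyclic hDqcyc inf_le_left
    exact sigma_part h c.hM hL hncL q hqM (mem_sigma_of_sylIn hsyl hDq1 (h1.trans hNL))
  -- `Y₀`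
  obtain ⟨y, hy⟩ := exists_prime_orderOf_dvd_card' (G := ↥Dq) q hqdvdDq
  have hyo : orderOf (y : G) = q := by rw [Subgroup.orderOf_coe]; exact hy
  refine ⟨q, zpowers (y : G), hclaimB, by rw [Nat.card_zpowers, hyo], ?_, ?_⟩
  · rw [Subgroup.zpowers_le]; exact hDqD y.2
  · rw [eq_bot_iff, ← hclaimC]
    exact inf_le_inf_right _ (by rw [Subgroup.zpowers_le]; exact y.2)

/-! ### The Frobenius argument -/

/-- A `Y₀`-invariant subgroup of order `p` of `A` other than `X` centralizes `J_σ`. -/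
theorem frob_centralize [Finite G] {hG : Cfsg.IsMinSimpleOddOrder G} (h : ODHyp hG)
    {M J F A X : Subgroup G} {p : ℕ} [Fact p.Prime] (c : ODCfg M J F A X p)
    {q : ℕ} (hq : q.Prime) {Y₀ : Subgroup G} (hY₀card : Nat.card Y₀ = q) (hY₀F : Y₀ ≤ F)
    (hXY : A ⊓ centralizer (Y₀ : Set G) = X)
    (hJY : sigmaCore J ⊓ centralizer (Y₀ : Set G) = ⊥)
    {A₁ : Subgroup G} (hA₁A : A₁ ≤ A) (hA₁card : Nat.card A₁ = p)
    (hYA₁ : Y₀ ≤ normalizer (A₁ : Set G)) (hA₁X : A₁ ≠ X) :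
    A₁ ≤ centralizer (sigmaCore J : Set G) := by
  classical
  have hpp : p.Prime := Fact.out
  haveI : Fact q.Prime := ⟨hq⟩
  have hFJ : F ≤ J := c.hF.1
  have hA₁p : IsPGroup p A₁ := IsPGroup.of_card (n := 1) (by rw [pow_one]; exact hA₁card)
  have hinf : A₁ ⊓ X = ⊥ := by
    by_contra hne
    have h1 : Nat.card ↥(A₁ ⊓ X) ∣ p := by
      rw [← hA₁card]; exact Subgroup.card_dvd_of_le inf_le_left
    rcases (Nat.dvd_prime hpp).mp h1 with h2 | h2
    · exact hne (Subgroup.card_eq_one.mp h2)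
    · have h3 : A₁ ⊓ X = A₁ := Subgroup.eq_of_le_of_card_ge inf_le_left (by rw [h2, hA₁card])
      have h4 : A₁ ⊓ X = X := Subgroup.eq_of_le_of_card_ge inf_le_right (by rw [h2, c.hXcard])
      exact hA₁X (h3.symm.trans h4)
  have hfpf : ∀ e ∈ Y₀, e ≠ 1 → ∀ u ∈ A₁, e * u = u * e → u = 1 := by
    intro e he he1 u hu hcomm
    have huX : u ∈ X := by
      rw [← hXY]
      refine Subgroup.mem_inf.mpr ⟨hA₁A hu, ?_⟩
      rw [Subgroup.mem_centralizer_iff]
      intro y hy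
      have hy' : (⟨y, hy⟩ : ↥Y₀) ∈ zpowers (⟨e, he⟩ : ↥Y₀) :=
        mem_zpowers_of_prime_card hY₀card (fun h1 => he1 (congrArg Subtype.val h1))
      obtain ⟨k, hk⟩ := Subgroup.mem_zpowers_iff.mp hy'
      have hk' : e ^ k = y := by simpa using congrArg Subtype.val hk
      rw [← hk']
      exact (Commute.zpow_left (show Commute e u from hcomm) k).eq
    have hmem : u ∈ A₁ ⊓ X := ⟨hu, huX⟩
    rw [hinf] at hmem
    exact Subgroup.mem_bot.mp hmem
  have hUn : ∀ e ∈ Y₀, ∀ u ∈ A₁, e * u * e⁻¹ ∈ A₁ :=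
    fun e he u hu => (Subgroup.le_normalizer_iff.mp hYA₁) e he u hu
  have hnil : Group.IsNilpotent A₁ := hA₁p.isNilpotent
  have hJσ := Cfsg.Agent.Lib.Helper67.BG.sigmaCore_normalizer J
  have hsupF : A₁ ⊔ Y₀ ≤ F := sup_le (hA₁A.trans c.hAF) hY₀F
  have hGH : A₁ ⊔ Y₀ ≤ normalizer (sigmaCore J : Set G) := hsupF.trans (hFJ.trans hJσ)
  have hσtop : sigmaCore J ≠ ⊤ :=
    fun ht => c.hJ.1 (top_le_iff.mp (ht ▸ Cfsg.Agent.Lib.Helper67.BG.sigmaCore_le J))
  have hsolv : Group.IsSolvable (sigmaCore J) := isSolvable_of_ne_top hG hσtop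
  have hcop : Nat.Coprime (Nat.card (sigmaCore J)) (Nat.card ↥(A₁ ⊔ Y₀)) := by
    have hHall := (h.h1350 J c.hJ).1
    have h1 := (Cfsg.Agent.Lib.Helper76.BG.card_sigma_split J hHall).2
    rw [← Cfsg.Agent.Lib.Helper76.BG.card_compl_eq_relIndex c.hF] at h1
    exact (Nat.Coprime.coprime_dvd_left (Subgroup.card_dvd_of_le hsupF) h1).symm
  have key := Cfsg.Agent.Lib.Helper97.FrobFormula.frob_formula A₁ Y₀ (sigmaCore J) hUn hfpf hnil hGH
    hsolv hcop
  rw [hJY, Subgroup.card_bot, one_pow, one_mul] at key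
  have hpos : 0 < Nat.card ↥(sigmaCore J ⊓ centralizer ((A₁ ⊔ Y₀ : Subgroup G) : Set G)) ^
      Nat.card Y₀ := pow_pos Nat.card_pos _
  have hle : Nat.card (sigmaCore J) ≤ Nat.card ↥(sigmaCore J ⊓ centralizer (A₁ : Set G)) := by
    rw [← key]; exact Nat.le_mul_of_pos_left _ hpos
  have heq : sigmaCore J ⊓ centralizer (A₁ : Set G) = sigmaCore J :=
    Subgroup.eq_of_le_of_card_ge inf_le_left hle
  rw [Subgroup.le_centralizer_iff, ← heq]
  exact inf_le_right

/-! ### The endgame -/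

theorem openD_endgame [Finite G] {hG : Cfsg.IsMinSimpleOddOrder G} (h : ODHyp hG)
    {M J F A X : Subgroup G} {p : ℕ} [Fact p.Prime] (c : ODCfg M J F A X p)
    {Y₀ : Subgroup G} (hY₀F : Y₀ ≤ F)
    (hXY : A ⊓ centralizer (Y₀ : Set G) = X)
    (hFL : ∀ A₁ : Subgroup G, A₁ ≤ A → Nat.card A₁ = p → Y₀ ≤ normalizer (A₁ : Set G) → A₁ ≠ X →
        A₁ ≤ centralizer (sigmaCore J : Set G)) : False := by
  classical
  have hpp : p.Prime := Fact.out
  obtain ⟨⟨hFA, hsubA⟩, hCA, hJNA, hNAJ⟩ := c.s1418 h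
  have hFJ : F ≤ J := c.hF.1
  have hXA : X ≤ A := hsubA X c.hXF c.hXcard
  have hAp : IsPGroup p A := IsPGroup.of_card c.hAcard
  have hA1 : A ≠ ⊥ := by
    intro hb
    have h0 := c.hAcard
    rw [hb, Subgroup.card_bot] at h0
    have h1 : 1 < p ^ 2 := Nat.one_lt_pow (by norm_num) hpp.one_lt
    omega
  have hAJ : A ≤ J := c.hAF.trans hFJ
  have hAtop : A ≠ ⊤ := fun ht => c.hJ.1 (top_le_iff.mp (ht ▸ hAJ))
  obtain ⟨N, hNdef⟩ : ∃ N : Subgroup G, N = normalizer (A : Set G) := ⟨_, rfl⟩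
  have hNtop : N ≠ ⊤ := by rw [hNdef]; exact normalizer_ne_top hG hA1 hAtop
  haveI hNsolv : Group.IsSolvable N := isSolvable_of_ne_top hG hNtop
  have hNodd : Odd (Nat.card N) := odd_card_subgroup hG N
  have hp2 : p ≠ 2 := prime_ne_two13 hG (X := A) (by rw [c.hAcard]; exact dvd_pow_self p (by norm_num))
  have hrA : PRankLE p 2 A := by
    rw [Cfsg.Agent.Lib.Helper24.pRankLE_subgroup_iff]
    intro B hBA _ _
    rw [← c.hAcard]; exact Subgroup.card_le_of_le hBA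
  have hNA : N ≤ normalizer (A : Set G) := by rw [hNdef]
  obtain ⟨φ, hφ⟩ := Cfsg.Agent.Lib.Helper1.exists_linearization hp2 A N hAp hrA hNA
  have hcommφ := Cfsg.Agent.Lib.Helper1.map_commutator_isPGroup hp2 hNodd φ
  have hpowC : ∀ x ∈ commutator ↥N, ∃ k : ℕ, ((x : ↥N) : G) ^ p ^ k ∈ centralizer (A : Set G) := by
    intro x hx
    obtain ⟨n, hn⟩ := hcommφ x hx
    obtain ⟨m, hm⟩ := Cfsg.Agent.Lib.Helper1.pow_mem_centralizer_of_ker A N φ hφ (x ^ p ^ n) hn
    refine ⟨n + m, ?_⟩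
    rw [pow_add, pow_mul]
    simpa using hm
  obtain ⟨K, hKdef⟩ : ∃ K : Subgroup G, K = (commutator ↥N).map N.subtype := ⟨_, rfl⟩
  have hNK : N ≤ normalizer (K : Set G) := by
    apply le_normalizer_of_forall_conj_mem
    intro n hn k hk
    rw [hKdef] at hk ⊢
    obtain ⟨k', hk', rfl⟩ := hk
    exact ⟨⟨n, hn⟩ * k' * ⟨n, hn⟩⁻¹,
      (inferInstance : (commutator ↥N).Normal).conj_mem k' hk' ⟨n, hn⟩, rfl⟩
  have hcommK : ∀ a ∈ N, ∀ b ∈ N, a * b * a⁻¹ * b⁻¹ ∈ K := by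
    intro a ha b hb
    rw [hKdef]
    refine ⟨⁅(⟨a, ha⟩ : ↥N), ⟨b, hb⟩⁆, ?_, rfl⟩
    rw [commutator_def]
    exact Subgroup.commutator_mem_commutator (Subgroup.mem_top _) (Subgroup.mem_top _)
  have hNA₃ : N ≤ normalizer ((A ⊓ centralizer (K : Set G) : Subgroup G) : Set G) := by
    intro n hn
    exact mem_normalizer_inf13 (hNA hn) (normalizer_le_normalizer_centralizer K (hNK hn))
  have hY₀N : Y₀ ≤ N := by rw [hNdef]; exact hY₀F.trans hFA
  have hXcent : X ≤ centralizer (Y₀ : Set G) := by rw [← hXY]; exact inf_le_right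
  have hNAJ' : ¬ N ≤ J := by rw [hNdef]; exact hNAJ
  by_cases hcase : A ≤ centralizer (K : Set G)
  · apply hNAJ'
    refine le_trans ?_ c.hNX
    apply le_normalizer_of_forall_conj_mem
    intro n hn x hx
    rw [← hXY]
    refine Subgroup.mem_inf.mpr ⟨(Subgroup.le_normalizer_iff.mp hNA) n hn x (hXA hx), ?_⟩
    rw [Subgroup.mem_centralizer_iff]
    intro y hy
    have hc : n⁻¹ * y * n⁻¹⁻¹ * y⁻¹ ∈ K := hcommK n⁻¹ (N.inv_mem hn) y (hY₀N hy)
    have hcx : (n⁻¹ * y * n⁻¹⁻¹ * y⁻¹) * x = x * (n⁻¹ * y * n⁻¹⁻¹ * y⁻¹) :=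
      Subgroup.mem_centralizer_iff.mp (hcase (hXA hx)) _ hc
    have hyx : y * x = x * y := Subgroup.mem_centralizer_iff.mp (hXcent hx) y hy
    calc y * (n * x * n⁻¹) = n * ((n⁻¹ * y * n⁻¹⁻¹ * y⁻¹) * (y * x)) * n⁻¹ := by group
      _ = n * ((n⁻¹ * y * n⁻¹⁻¹ * y⁻¹) * (x * y)) * n⁻¹ := by rw [hyx]
      _ = n * (((n⁻¹ * y * n⁻¹⁻¹ * y⁻¹) * x) * y) * n⁻¹ := by group
      _ = n * ((x * (n⁻¹ * y * n⁻¹⁻¹ * y⁻¹)) * y) * n⁻¹ := by rw [hcx]
      _ = n * x * n⁻¹ * y := by group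
  · -- the derived group of `N` acts on `A` as a `p`-group: a nontrivial fixed point
    have hNeq : N = normalizer (A : Set G) := hNdef
    subst hNeq
    obtain ⟨ρ, hρdef⟩ : ∃ ρ : ↥(normalizer (A : Set G)) →* MulAut ↥A,
        ρ = Subgroup.normalizerMonoidHom A := ⟨_, rfl⟩
    have hρ : ∀ (n : ↥(normalizer (A : Set G))) (a : ↥A),
        ((ρ n a : ↥A) : G) = (n : G) * (a : G) * (n : G)⁻¹ := by
      intro n a
      rw [hρdef]
      rfl
    have hΓ₀p : IsPGroup p ↥((commutator ↥(normalizer (A : Set G))).map ρ) := by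
      rintro ⟨γ, x, hx, rfl⟩
      obtain ⟨k, hk⟩ := hpowC x hx
      refine ⟨k, ?_⟩
      apply Subtype.ext
      rw [Subgroup.coe_pow, Subgroup.coe_one, ← map_pow]
      apply MulEquiv.ext
      intro a
      apply Subtype.ext
      rw [hρ]
      have h1 := Subgroup.mem_centralizer_iff.mp hk (a : G) a.2
      have h2 : ((x ^ p ^ k : ↥(normalizer (A : Set G))) : G) = (x : G) ^ p ^ k := by simp
      rw [h2, ← h1]
      simp
    have hpA : p ∣ Nat.card ↥A := by rw [c.hAcard]; exact dvd_pow_self p (by norm_num)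
    have h1fix : (1 : ↥A) ∈
        MulAction.fixedPoints ↥((commutator ↥(normalizer (A : Set G))).map ρ) ↥A := by
      intro γ
      exact map_one γ.1
    obtain ⟨b, hbfix, hb1⟩ :=
      hΓ₀p.exists_fixed_point_of_prime_dvd_card_of_fixed_point ↥A hpA h1fix
    have hbK : (b : G) ∈ centralizer (K : Set G) := by
      rw [Subgroup.mem_centralizer_iff]
      intro k hk
      rw [hKdef] at hk
      obtain ⟨x, hx, rfl⟩ := hk
      have h2 := hbfix ⟨ρ x, Subgroup.mem_map_of_mem ρ hx⟩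
      have h3 : ρ x b = b := h2
      have h4 := congrArg Subtype.val h3
      rw [hρ] at h4
      show (x : G) * (b : G) = (b : G) * (x : G)
      calc (x : G) * (b : G) = ((x : G) * (b : G) * (x : G)⁻¹) * (x : G) := by group
        _ = (b : G) * (x : G) := by rw [h4]
    have hbA₃ : (b : G) ∈ A ⊓ centralizer (K : Set G) := ⟨b.2, hbK⟩
    have hA₃1 : A ⊓ centralizer (K : Set G) ≠ ⊥ := by
      intro hbot
      rw [hbot, Subgroup.mem_bot] at hbA₃
      exact hb1 (Subtype.ext hbA₃).symm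
    have hA₃A : A ⊓ centralizer (K : Set G) ≤ A := inf_le_left
    have hA₃ne : A ⊓ centralizer (K : Set G) ≠ A := fun heq => hcase (heq ▸ inf_le_right)
    have hA₃card : Nat.card ↥(A ⊓ centralizer (K : Set G)) = p := by
      rcases card_of_ne_of_card_sq hpp c.hAcard hA₃A hA₃ne with h1 | h1
      · exact absurd (Subgroup.card_eq_one.mp h1) hA₃1
      · exact h1
    by_cases hA₃X : A ⊓ centralizer (K : Set G) = X
    · apply hNAJ'
      rw [hA₃X] at hNA₃
      exact hNA₃.trans c.hNX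
    · have hA₃cent := hFL _ hA₃A hA₃card (hY₀N.trans hNA₃) hA₃X
      have hσ1 : sigmaCore J ≠ ⊥ := Cfsg.Agent.Lib.Helper47.BG.sigmaCore_ne_bot hG h.h1405 J c.hJ
      have hCJσA : sigmaCore J ⊓ centralizer (A : Set G) = ⊥ :=
        (h.h1417 J c.hJ p c.hτ₂ A ⟨hAJ, c.hAea, c.hAcard⟩).2.2.2.1
      have hA₂ne : A ⊓ centralizer (sigmaCore J : Set G) ≠ A := by
        intro heq
        have h1 : A ≤ centralizer (sigmaCore J : Set G) := heq ▸ inf_le_right
        have h2 : sigmaCore J ≤ centralizer (A : Set G) := Subgroup.le_centralizer_iff.mp h1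
        exact hσ1 (le_bot_iff.mp (hCJσA ▸ le_inf le_rfl h2))
      have hA₃A₂ : A ⊓ centralizer (K : Set G) ≤ A ⊓ centralizer (sigmaCore J : Set G) :=
        le_inf hA₃A hA₃cent
      have hA₂card : Nat.card ↥(A ⊓ centralizer (sigmaCore J : Set G)) ≤ p := by
        rcases card_of_ne_of_card_sq hpp c.hAcard inf_le_left hA₂ne with h1 | h1
        · rw [h1]; exact hpp.one_lt.le
        · rw [h1]
      have hEq : A ⊓ centralizer (K : Set G) = A ⊓ centralizer (sigmaCore J : Set G) :=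
        Subgroup.eq_of_le_of_card_ge hA₃A₂ (by rw [hA₃card]; exact hA₂card)
      have hJA₂ : J ≤ normalizer ((A ⊓ centralizer (sigmaCore J : Set G) : Subgroup G) : Set G) := by
        intro m hm
        obtain ⟨a, ha, b', hb', rfl⟩ := c.hF.2.2.2 m hm
        apply Subgroup.mul_mem
        · exact mem_normalizer_inf13 (hFA ha) (normalizer_le_normalizer_centralizer _
            (Cfsg.Agent.Lib.Helper67.BG.sigmaCore_normalizer J (hFJ ha)))
        · apply centralizer_le_normalizer' (A ⊓ centralizer (sigmaCore J : Set G))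
          rw [Subgroup.mem_centralizer_iff]
          intro z hz
          exact (Subgroup.mem_centralizer_iff.mp hz.2 b' hb').symm
      have hA₂1 : A ⊓ centralizer (sigmaCore J : Set G) ≠ ⊥ := hEq ▸ hA₃1
      have hA₂J : A ⊓ centralizer (sigmaCore J : Set G) ≤ J := inf_le_left.trans hAJ
      have hNA₂ : normalizer ((A ⊓ centralizer (sigmaCore J : Set G) : Subgroup G) : Set G) = J :=
        Cfsg.Agent.Lib.Helper13.BG.normalizer_eq_of_coatom hG c.hJ hA₂1 hA₂J hJA₂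
      apply hNAJ'
      rw [← hNA₂, ← hEq]
      exact hNA₃

/-! ### The theorem -/

/-- **OPEN-D** (clause (3c) of S1430).  Let `M` be a maximal subgroup, `p ∉ σ(M)` a prime with `M`
of `p`-rank at most one, `X ≤ M` of order `p` with `C_{M_σ}(X) ≠ 1` and `J` a maximal subgroup
containing `N_G(X)`.  Then `p ∈ σ(J)`. -/
theorem openD [Finite G] {hG : Cfsg.IsMinSimpleOddOrder G} (h : ODHyp hG)
    {M : Subgroup G} (hM : IsCoatom M) {p : ℕ} [Fact p.Prime] (hpM : p ∉ sigma M)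
    (hp1 : PRankLE p 1 M) {X : Subgroup G} (hXM : X ≤ M) (hXcard : Nat.card X = p)
    (hD : sigmaCore M ⊓ centralizer (X : Set G) ≠ ⊥)
    {J : Subgroup G} (hJ : IsCoatom J) (hNX : normalizer (X : Set G) ≤ J) : p ∈ sigma J := by
  classical
  by_contra hpJ
  have hpp : p.Prime := Fact.out
  obtain ⟨⟨hr2, hr1⟩, -, -⟩ := h.h1409 J hJ p hpJ X hXcard hNX
  have hτ₂ : p ∈ tau2 J := ⟨hpp, hpJ, hr2, hr1⟩
  have hHallJ := (h.h1350 J hJ).1
  have hXJ : X ≤ J := le_normalizer.trans hNX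
  have hDJ : sigmaCore M ⊓ centralizer (X : Set G) ≤ J :=
    inf_le_right.trans ((centralizer_le_normalizer' X).trans hNX)
  have hncJ : ∀ g : G, J ≠ M.map (MulAut.conj g).toMonoidHom := by
    intro g hJg
    obtain ⟨B, hBJ, hBea, hBcard⟩ :=
      Cfsg.Agent.Lib.Helper76.BG.exists_ea_sq_of_not_rank_one J p hr1
    have hBM : B.map (MulAut.conj g⁻¹).toMonoidHom ≤ M := by
      rintro _ ⟨b, hb, rfl⟩
      have hbJ := hBJ hb
      rw [hJg, mem_map_conj_iff] at hbJ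
      simpa [MulAut.conj_apply] using hbJ
    exact not_le_of_pRankLE_one hp1
      (Cfsg.Agent.Lib.Helper67.BG.isElementaryAbelian_map_conj hBea g⁻¹)
      (by rw [card_map_conj]; exact hBcard) hBM
  have hDσ : ∀ r : ℕ, r.Prime → r ∣ Nat.card ↥(sigmaCore M ⊓ centralizer (X : Set G)) →
      r ∉ sigma J := by
    intro r hr hrdvd
    have h1 : r ∈ sigma M := Cfsg.Agent.Lib.Helper67.BG.sigmaCore_isPi M r hr
      (hrdvd.trans (Subgroup.card_dvd_of_le inf_le_left))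
    exact sigma_part h hM hJ hncJ r h1
  have hXD : X ≤ normalizer ((sigmaCore M ⊓ centralizer (X : Set G) : Subgroup G) : Set G) :=
    (Subgroup.le_centralizer_iff.mp (inf_le_right : sigmaCore M ⊓ centralizer (X : Set G) ≤ _)).trans
      (centralizer_le_normalizer' _)
  have hDX : ∀ r : ℕ, r.Prime →
      r ∣ Nat.card ↥((sigmaCore M ⊓ centralizer (X : Set G)) ⊔ X) → r ∉ sigma J := by
    intro r hr hrdvd
    have h1 := Cfsg.Agent.Lib.Helper91.card_sup_mul_card_inf_of_le_normalizer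
      (sigmaCore M ⊓ centralizer (X : Set G)) X hXD
    have h2 : r ∣ Nat.card ↥(sigmaCore M ⊓ centralizer (X : Set G)) * Nat.card X := by
      rw [← h1]; exact Dvd.dvd.mul_right hrdvd _
    rcases (Nat.Prime.dvd_mul hr).mp h2 with h3 | h3
    · exact hDσ r hr h3
    · rw [hXcard] at h3
      rw [(Nat.prime_dvd_prime_iff_eq hr hpp).mp h3]; exact hpJ
  obtain ⟨F, hF, hDXF⟩ := Cfsg.Agent.Lib.Helper76.BG.exists_compl_ge hG J hJ hHallJ
    ((sigmaCore M ⊓ centralizer (X : Set G)) ⊔ X) (sup_le hDJ hXJ) hDX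
  obtain ⟨A, hAF, hAea, hAcard⟩ := Cfsg.Agent.Lib.Helper67.BG.exists_ea_sq_le_compl hF hτ₂
  have c : ODCfg M J F A X p :=
    ⟨hM, hJ, hpM, hp1, hXM, hXcard, hNX, hτ₂, hF, le_sup_left.trans hDXF, le_sup_right.trans hDXF,
      hAF, hAea, hAcard⟩
  obtain ⟨q, Y₀, hqτ₁, hY₀card, hY₀D, hY₀A⟩ := exists_Y0 h c hD
  have hqp : q.Prime := hqτ₁.1
  have hY₀F : Y₀ ≤ F := hY₀D.trans c.hDF
  obtain ⟨⟨hFA, hsubA⟩, hCA, hJNA, hNAJ⟩ := c.s1418 h
  have hXA : X ≤ A := hsubA X c.hXF hXcard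
  have hY₀1 : Y₀ ≠ ⊥ := by
    intro hb
    rw [hb, Subgroup.card_bot] at hY₀card
    exact hqp.one_lt.ne hY₀card
  have hX1 : X ≠ ⊥ := by
    intro hb
    rw [hb, Subgroup.card_bot] at hXcard
    exact hpp.one_lt.ne hXcard
  have hXY : A ⊓ centralizer (Y₀ : Set G) = X := by
    have hXle : X ≤ A ⊓ centralizer (Y₀ : Set G) :=
      le_inf hXA (Subgroup.le_centralizer_iff.mp (hY₀D.trans inf_le_right))
    have hne : A ⊓ centralizer (Y₀ : Set G) ≠ A := by
      intro heq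
      have h1 : A ≤ centralizer (Y₀ : Set G) := heq ▸ inf_le_right
      have h2 : Y₀ ≤ centralizer (A : Set G) := Subgroup.le_centralizer_iff.mp h1
      exact hY₀1 (le_bot_iff.mp (hY₀A ▸ le_inf le_rfl h2))
    have hcard : Nat.card ↥(A ⊓ centralizer (Y₀ : Set G)) ≤ p := by
      rcases card_of_ne_of_card_sq hpp hAcard inf_le_left hne with h1 | h1
      · rw [h1]; exact hpp.one_lt.le
      · rw [h1]
    exact (Subgroup.eq_of_le_of_card_ge hXle (by rw [hXcard]; exact hcard)).symm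
  have hJY : sigmaCore J ⊓ centralizer (Y₀ : Set G) = ⊥ :=
    h.h1312 J hJ F hF p hτ₂ A ⟨hAF, hAea, hAcard⟩ q hqτ₁ Y₀ hY₀F hY₀card
      (by rw [hXY]; exact hX1)
  exact openD_endgame h c hY₀F hXY
    (fun A₁ h1 h2 h3 h4 => frob_centralize h c hqp hY₀card hY₀F hXY hJY h1 h2 h3 h4)

/-- In a cyclic `p`-subgroup `S`, every element of order dividing `p` is a power of any given
non-identity element. -/
theorem mem_zpowers_of_cyclic_pgroup [Finite G] {p : ℕ} [Fact p.Prime] {S : Subgroup G}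
    (hS : IsPGroup p S) (hc : IsCyclic S) {x z : G} (hx : x ∈ S) (hx1 : x ≠ 1) (hz : z ∈ S)
    (hzp : z ^ p = 1) : z ∈ zpowers x := by
  have hpp : p.Prime := Fact.out
  obtain ⟨k, hk⟩ := (hS ⟨x, hx⟩)
  have hk' : x ^ p ^ k = 1 := by simpa using congrArg Subtype.val hk
  have hord : orderOf x ∣ p ^ k := orderOf_dvd_of_pow_eq_one hk'
  have hord1 : orderOf x ≠ 1 := fun h => hx1 (orderOf_eq_one_iff.mp h)
  have hpdvd : p ∣ orderOf x := by
    obtain ⟨i, -, hi⟩ := (Nat.dvd_prime_pow hpp).mp hord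
    rw [hi]
    rcases i with _ | i
    · rw [pow_zero] at hi; exact absurd hi hord1
    · exact dvd_pow_self p (Nat.succ_ne_zero i)
  have hord0 : orderOf x ≠ 0 := (orderOf_pos x).ne'
  have hx'o : orderOf (x ^ (orderOf x / p)) = p := orderOf_pow_orderOf_div hord0 hpdvd
  have hx'S : x ^ (orderOf x / p) ∈ S := S.pow_mem hx _
  have h1 : (⟨z, hz⟩ : ↥S) ∈ zpowers (⟨x ^ (orderOf x / p), hx'S⟩ : ↥S) := by
    haveI : IsCyclic ↥S := hc
    refine Cfsg.Agent.Lib.Helper24.mem_zpowers_of_orderOf_eq_prime hpp _ _ ?_ ?_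
    · exact (Subgroup.orderOf_coe (⟨x ^ (orderOf x / p), hx'S⟩ : ↥S)).symm.trans hx'o
    · exact Subtype.ext (by simpa using hzp)
  obtain ⟨i, hi⟩ := Subgroup.mem_zpowers_iff.mp h1
  have hi' : (x ^ (orderOf x / p)) ^ i = z := by simpa using congrArg Subtype.val hi
  rw [← hi', ← zpow_natCast, ← zpow_mul]
  exact Subgroup.zpow_mem_zpowers x _

/-- **Clause (3c) of S1430.**  For a Hall `κ(M)`-subgroup `K` of the maximal subgroup `M`, every
subgroup `X ≤ K` of prime order lies in `M*_σ` for every maximal subgroup `M*` containing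
`N_G(X)`. -/
theorem openD_clause [Finite G] {hG : Cfsg.IsMinSimpleOddOrder G} (h : ODHyp hG)
    {M : Subgroup G} (hM : IsCoatom M) {K : Subgroup G} (hK : IsPiHallOf (kappa M) K M)
    {X : Subgroup G} (hXK : X ≤ K) (hXp : (Nat.card X).Prime)
    {Mstar : Subgroup G} (hMs : IsCoatom Mstar) (hNX : normalizer (X : Set G) ≤ Mstar) :
    X ≤ sigmaCore Mstar := by
  classical
  obtain ⟨p, hpdef⟩ : ∃ p : ℕ, p = Nat.card X := ⟨_, rfl⟩
  have hpp : p.Prime := by rw [hpdef]; exact hXp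
  haveI : Fact p.Prime := ⟨hpp⟩
  have hXM : X ≤ M := hXK.trans hK.1
  have hpκ : p ∈ kappa M := hK.2.1 p hpp (by rw [hpdef]; exact Subgroup.card_dvd_of_le hXK)
  obtain ⟨-, hpdvd, hpσ, hSyl⟩ := hpκ
  have hXpg : IsPGroup p X := IsPGroup.of_card (n := 1) (by rw [pow_one]; exact hpdef.symm)
  obtain ⟨S, hSsyl, hXS⟩ := exists_isSylowIn_ge hXpg hXM
  obtain ⟨P, hP⟩ := hSsyl.exists_sylow
  obtain ⟨hPcyc, x, hxP, hx1, y, hyσ, hy1, hxy⟩ := hSyl P
  have hScyc : IsCyclic S := by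
    rw [← hP]
    exact ((P : Subgroup ↥M).equivMapOfInjective M.subtype M.subtype_injective).isCyclic.mp hPcyc
  have hp1 : PRankLE p 1 M := pRankLE_one_of_cyclic_sylow hSsyl hScyc
  have hxS : (x : G) ∈ S := by rw [← hP]; exact ⟨x, hxP, rfl⟩
  have hxG1 : (x : G) ≠ 1 := fun h1 => hx1 (Subtype.ext h1)
  have hD : sigmaCore M ⊓ centralizer (X : Set G) ≠ ⊥ := by
    intro hbot
    have hy : y ∈ sigmaCore M ⊓ centralizer (X : Set G) := by
      refine Subgroup.mem_inf.mpr ⟨hyσ, ?_⟩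
      rw [Subgroup.mem_centralizer_iff]
      intro z hz
      have hzp : z ^ p = 1 := by
        have h0 : (⟨z, hz⟩ : ↥X) ^ p = 1 := by rw [hpdef]; exact pow_card_eq_one'
        simpa using congrArg Subtype.val h0
      have hzx := mem_zpowers_of_cyclic_pgroup (sylIn_isPGroup hSsyl) hScyc hxS hxG1 (hXS hz) hzp
      obtain ⟨i, hi⟩ := Subgroup.mem_zpowers_iff.mp hzx
      rw [← hi]
      exact (Commute.zpow_left (show Commute (x : G) y from hxy) i).eq
    rw [hbot, Subgroup.mem_bot] at hy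
    exact hy1 hy
  have hpMs : p ∈ sigma Mstar := openD h hM hpσ hp1 hXM hpdef.symm hD hMs hNX
  have hXMs : X ≤ Mstar := le_normalizer.trans hNX
  apply Cfsg.Agent.Lib.Helper74.BG.le_sigmaCore_of_le (h.h1350 Mstar hMs).1 hXMs
  intro r hr hrdvd
  rw [← hpdef] at hrdvd
  rw [(Nat.prime_dvd_prime_iff_eq hr hpp).mp hrdvd]
  exact hpMs

end Cfsg.Agent.Lib.Helper23.BG
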